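import Mathlib
import Groth.Prelude.Def_Found
import Groth.Agent.Hensel.QuasiFiniteSplit
import Groth.Agent.Hensel.Local
import Groth.Agent.CompleteNagata.Complete

/-!
# Finite discrete valuation rings through a point of the closed fibre
-/

set_option autoImplicit false
set_option linter.style.haveILetI false

open IsLocalRing

namespace Groth.Agent.UnivOpenDvr5

universe u

/-- In a Noetherian domain a maximal ideal is minimal over `(a)` if every nonzero prime below it
contains `a`. -/
theorem eq_of_forall_prime_le_mem {D : Type u} [CommRing D] [IsDomain D] [IsNoetherianRing D] {a : D}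
    (ha : a ≠ 0) (P : Ideal D) [hP : P.IsMaximal]
    (h : ∀ q : Ideal D, q.IsPrime → q ≤ P → q ≠ ⊥ → a ∈ q)
    (q : Ideal D) (hq : q.IsPrime) (haq : a ∈ q) (hqP : q ≤ P) : q = P := by
  by_contra hne
  have hfin : (Ideal.span {a}).minimalPrimes.Finite :=
    Ideal.finite_minimalPrimes_of_isNoetherianRing D _
  by_cases hPmin : P ∈ (Ideal.span {a}).minimalPrimes
  · exact hne (le_antisymm hqP (hPmin.2 ⟨hq, (Ideal.span_singleton_le_iff_mem _).2 haq⟩ hqP))
  have hsub : ¬ (P : Set D) ⊆ ⋃ I ∈ (hfin.toFinset : Set (Ideal D)), (I : Set D) := by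
    rw [Ideal.subset_union_prime ⊥ ⊥ fun I hI _ _ => ((Set.Finite.mem_toFinset hfin).1 hI).1.1]
    rintro ⟨I, hI, hle⟩
    have hI' := (Set.Finite.mem_toFinset hfin).1 hI
    exact hPmin (hP.eq_of_le hI'.1.1.ne_top hle ▸ hI')
  obtain ⟨b, hbP, hb⟩ := Set.not_subset.1 hsub
  obtain ⟨q', hq', hq'P⟩ := Ideal.exists_minimalPrimes_le
    ((Ideal.span_singleton_le_iff_mem P).2 hbP)
  have hb0 : q' ≠ ⊥ := fun e => by
    have hb1 : b ∈ q' := hq'.1.2 (Ideal.mem_span_singleton_self b)
    rw [e, Ideal.mem_bot] at hb1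
    subst hb1
    obtain ⟨I, hI⟩ := (Ideal.span {a}).nonempty_minimalPrimes
      (fun e1 => hP.ne_top (top_le_iff.1 (e1 ▸ (Ideal.span_singleton_le_iff_mem P).2 (hqP haq))))
    exact hb (Set.mem_biUnion ((Set.Finite.mem_toFinset hfin).2 hI) I.zero_mem)
  haveI := hq'.1.1
  obtain ⟨I, hI, hIq⟩ := Ideal.exists_minimalPrimes_le
    ((Ideal.span_singleton_le_iff_mem q').2 (h q' hq'.1.1 hq'P hb0))
  haveI := hI.1.1
  haveI : (Ideal.span {b}).IsPrincipal := ⟨⟨b, rfl⟩⟩
  have hlt : I < q' := lt_of_le_of_ne hIq fun e =>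
    hb (Set.mem_biUnion ((Set.Finite.mem_toFinset hfin).2 (e ▸ hI))
      (hq'.1.2 (Ideal.mem_span_singleton_self b)))
  have h1 : q'.height ≤ 1 := Ideal.height_le_one_of_isPrincipal_of_mem_minimalPrimes _ q' hq'
  have h2 : I.height < q'.height := Ideal.height_strict_mono_of_isPrime hlt
  have h3 : I.height = 0 := ENat.lt_one_iff_eq_zero.1 (h2.trans_le h1)
  rw [Ideal.height_eq_zero_iff_eq_bot] at h3
  exact ha (by simpa [h3] using hI.1.2 (Ideal.mem_span_singleton_self a))

/-- A closed point of the closed fibre which is the only closed fibre point below itself is quasi-finite. -/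
theorem quasiFiniteAt_of_minimal {O S : Type u} [CommRing O] [CommRing S] [Algebra O S]
    [Algebra.FiniteType O S] [IsNoetherianRing S] (m : Ideal O) [m.IsMaximal] (P : Ideal S) [hP : P.IsMaximal]
    [P.LiesOver m] (h : ∀ q : Ideal S, q.IsPrime → m.map (algebraMap O S) ≤ q → q ≤ P → q = P) :
    Algebra.QuasiFiniteAt O P := by
  let x : PrimeSpectrum S := ⟨P, hP.isPrime⟩
  refine Algebra.QuasiFiniteAt.of_isOpen_singleton_fiber x ?_
  let T : Set (Ideal S) := {I | I ∈ (m.map (algebraMap O S)).minimalPrimes ∧ I ≠ P}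
  have hT : T.Finite := (Ideal.finite_minimalPrimes_of_isNoetherianRing S _).subset fun _ h => h.1
  have hc : IsClosed (⋃ I ∈ T, PrimeSpectrum.zeroLocus (I : Set S)) :=
    hT.isClosed_biUnion fun I _ => PrimeSpectrum.isClosed_zeroLocus _
  refine isOpen_induced_iff.2 ⟨_, hc.isOpen_compl, ?_⟩
  ext ⟨y, hy⟩
  simp only [Set.mem_preimage, Set.mem_compl_iff, Set.mem_iUnion, not_exists, Set.mem_singleton_iff,
    Subtype.mk.injEq, PrimeSpectrum.mem_zeroLocus, SetLike.coe_subset_coe]
  constructor
  · intro hy'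
    have hy1 : y.asIdeal.comap (algebraMap O S) = P.comap (algebraMap O S) :=
      congrArg PrimeSpectrum.asIdeal hy
    have hle : m.map (algebraMap O S) ≤ y.asIdeal := Ideal.map_le_iff_le_comap.2 (by
      rw [hy1]; exact (P.over_def m).le)
    obtain ⟨I, hI, hIy⟩ := Ideal.exists_minimalPrimes_le hle
    have hIP : I = P := by_contra fun hne => hy' I ⟨hI, hne⟩ hIy
    exact PrimeSpectrum.ext (hP.eq_of_le y.2.ne_top (hIP ▸ hIy)).symm
  · rintro rfl I ⟨hI, hne⟩ hIP
    exact hne (h I hI.1.1 hI.1.2 hIP)

/-- A finite domain over a henselian local ring is local. -/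
theorem isLocalRing_of_finite_domain (A B : Type u) [CommRing A] [HenselianLocalRing A] [CommRing B]
    [IsDomain B] [Algebra A B] [Module.Finite A B] : IsLocalRing B := by
  obtain ⟨_, e, he, hM⟩ := Hensel.exists_idempotents_of_henselian A B
  obtain ⟨M, hM'⟩ := Ideal.exists_maximal B
  refine IsLocalRing.of_unique_max_ideal ⟨M, hM', fun N hN => ?_⟩
  by_contra hne
  have hne' : (⟨N, hN⟩ : MaximalSpectrum B) ≠ ⟨M, hM'⟩ := fun e => hne (congrArg MaximalSpectrum.asIdeal e)
  rcases mul_eq_zero.1 (he.ortho hne') with h | h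
  · exact (hM ⟨N, hN⟩).1 (h ▸ N.zero_mem)
  · exact (hM ⟨M, hM'⟩).1 (h ▸ M.zero_mem)

/-- The normalization of a finite domain over a complete discrete valuation ring. -/
theorem exists_dvr_over {A : Type u} [CommRing A] [IsDomain A] [IsDiscreteValuationRing A]
    [IsAdicComplete (maximalIdeal A) A] (D : Type u) [CommRing D] [IsDomain D] [Algebra A D] [Module.Finite A D]
    [FaithfulSMul A D] :
    ∃ (B : Type u) (_ : CommRing B) (_ : IsDomain B) (_ : IsDiscreteValuationRing B) (_ : Algebra A B)
      (_ : IsLocalHom (algebraMap A B)) (_ : Module.Finite A B) (i : D →ₐ[A] B), IsLocalHom i.toRingHom := by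
  haveI : HenselianLocalRing A := Hensel.henselianLocalRing_of_henselianRing A
  let L := FractionRing D
  haveI : FaithfulSMul A L := (faithfulSMul_iff_algebraMap_injective A L).2 (by
    rw [IsScalarTower.algebraMap_eq A D L]
    exact (IsFractionRing.injective D L).comp (FaithfulSMul.algebraMap_injective A D))
  letI : Algebra (FractionRing A) L := FractionRing.liftAlgebra A L
  haveI : FiniteDimensional (FractionRing A) L := inferInstance
  haveI hBfin : Module.Finite A (integralClosure A L) :=
    CompleteNagata.isN2_of_complete A L inferInstance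
  let B := integralClosure A L
  haveI : IsLocalRing B := isLocalRing_of_finite_domain A B
  haveI : IsNoetherianRing B := isNoetherian_of_tower A (inferInstance : IsNoetherian A B)
  haveI : IsFractionRing B L := integralClosure.isFractionRing_of_finite_extension (FractionRing A) L
  haveI : IsIntegrallyClosed B := integralClosure.isIntegrallyClosedOfFiniteExtension (FractionRing A)
  haveI : Algebra.IsIntegral A B := inferInstance
  have hAB : Function.Injective (algebraMap A B) := by
    intro a b e
    exact FaithfulSMul.algebraMap_injective A L (congrArg Subtype.val e)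
  haveI : Ring.DimensionLEOne B := Ring.DimensionLEOne.integralClosure A L
  haveI : IsDedekindDomain B := {}
  have hBf : ¬ IsField B := fun hf => IsDiscreteValuationRing.not_isField A
    (isField_of_isIntegral_of_isField hAB hf)
  haveI : IsDiscreteValuationRing B :=
    (IsDiscreteValuationRing.TFAE B hBf).out 0 2 rfl rfl |>.2 inferInstance
  haveI hloc : IsLocalHom (algebraMap A B) := RingHom.IsIntegral.isLocalHom Algebra.IsIntegral.isIntegral hAB
  let i : D →ₐ[A] B := (IsScalarTower.toAlgHom A D L).codRestrict B fun d =>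
    (Algebra.IsIntegral.isIntegral d).map (IsScalarTower.toAlgHom A D L)
  have hi : Function.Injective i := fun a b e => IsFractionRing.injective D L (congrArg Subtype.val e)
  have hii : i.toRingHom.IsIntegral :=
    RingHom.IsIntegral.tower_top (algebraMap A D) i.toRingHom (by
      rw [show i.toRingHom.comp (algebraMap A D) = algebraMap A B from RingHom.ext i.commutes]; exact Algebra.IsIntegral.isIntegral)
  haveI hiloc : IsLocalHom i.toRingHom := hii.isLocalHom hi
  exact ⟨B, inferInstance, inferInstance, inferInstance, inferInstance, hloc, hBfin, i, hiloc⟩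

/-- A section of the closed fibre generizing to the generic fibre lifts to a finite discrete valuation
ring. -/
theorem exists_dvr_section {A R : Type u} [CommRing A] [IsDomain A] [IsDiscreteValuationRing A]
    [IsAdicComplete (maximalIdeal A) A] [CommRing R] [Algebra A R] [Algebra.FiniteType A R]
    (ψ : R →ₐ[A] ResidueField A) (Q₀ : Ideal R) [hQ₀ : Q₀.IsPrime] (hle : Q₀ ≤ RingHom.ker ψ)
    (hQ₀A : Q₀.comap (algebraMap A R) ≠ maximalIdeal A) :
    ∃ (B : CommRingCat.{u}) (_ : IsDomain B) (_ : IsDiscreteValuationRing B) (φ : A →+* B) (_ : IsLocalHom φ)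
      (χ : R →+* B), φ.Finite ∧ χ.comp (algebraMap A R) = φ ∧
        ∀ r, residue B (χ r) = ResidueField.map φ (ψ r) := by
  classical
  haveI : IsNoetherianRing R := Algebra.FiniteType.isNoetherianRing A R
  have hψ : Function.Surjective ψ := fun c => by
    obtain ⟨a, rfl⟩ := residue_surjective c
    exact ⟨algebraMap A R a, ψ.commutes a⟩
  haveI hPmax : (RingHom.ker ψ).IsMaximal := RingHom.ker_isMaximal_of_surjective ψ hψ
  have hbot : ∀ q : Ideal A, q.IsPrime → q ≠ maximalIdeal A → q = ⊥ := fun q hq hne => by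
    by_contra h0
    exact hne (eq_maximalIdeal (hq.isMaximal_of_ne_bot h0))
  let S : Set (Ideal R) := {Q | Q.IsPrime ∧ Q ≤ RingHom.ker ψ ∧ Q.comap (algebraMap A R) = ⊥}
  obtain ⟨Q, ⟨hQ, hQP, hQA⟩, hmax⟩ := set_has_maximal_iff_noetherian.2 inferInstance S
    ⟨Q₀, hQ₀, hle, hbot _ (Ideal.IsPrime.comap _) hQ₀A⟩
  obtain ⟨π, hπ⟩ := IsDiscreteValuationRing.exists_irreducible A
  haveI := hQ
  have hinj : Function.Injective (algebraMap A (R ⧸ Q)) := by
    rw [injective_iff_map_eq_zero]
    intro a ha
    rw [IsScalarTower.algebraMap_apply A R (R ⧸ Q), Ideal.Quotient.algebraMap_eq,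
      Ideal.Quotient.eq_zero_iff_mem] at ha
    exact (Ideal.mem_bot).1 (hQA ▸ (show a ∈ Ideal.comap (algebraMap A R) Q from ha))
  haveI : Algebra.FiniteType A (R ⧸ Q) :=
    .of_surjective (Ideal.Quotient.mkₐ A Q) (Ideal.Quotient.mkₐ_surjective A Q)
  let P' : Ideal (R ⧸ Q) := (RingHom.ker ψ).map (Ideal.Quotient.mk Q)
  have hcomap : P'.comap (Ideal.Quotient.mk Q) = RingHom.ker ψ := by
    rw [Ideal.comap_map_of_surjective _ Ideal.Quotient.mk_surjective, ← RingHom.ker_eq_comap_bot,
      Ideal.mk_ker, sup_eq_left.2 hQP]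
  haveI hP' : P'.IsMaximal :=
    (Ideal.map_eq_top_or_isMaximal_of_surjective _ Ideal.Quotient.mk_surjective hPmax).resolve_left
      fun e => hPmax.ne_top (by rw [← hcomap]; show P'.comap _ = ⊤; rw [show P' = ⊤ from e, Ideal.comap_top])
  have hP'A : P'.comap (algebraMap A (R ⧸ Q)) = maximalIdeal A := by
    rw [show algebraMap A (R ⧸ Q) = (Ideal.Quotient.mk Q).comp (algebraMap A R) from rfl,
      ← Ideal.comap_comap, hcomap]
    ext a
    rw [Ideal.mem_comap, RingHom.mem_ker, ψ.commutes, IsLocalRing.ResidueField.algebraMap_eq,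
      residue_eq_zero_iff]
  haveI : P'.LiesOver (maximalIdeal A) := ⟨hP'A.symm⟩
  have hπ0 : algebraMap A (R ⧸ Q) π ≠ 0 := (map_ne_zero_iff _ hinj).2 hπ.ne_zero
  have hsmall : ∀ q : Ideal (R ⧸ Q), q.IsPrime → q ≤ P' → q ≠ ⊥ → algebraMap A (R ⧸ Q) π ∈ q := by
    intro q hq hqP hq0
    by_contra hπq
    have hq1 : q.comap (algebraMap A (R ⧸ Q)) = ⊥ := hbot _ (Ideal.IsPrime.comap _) fun e => hπq (by
      show π ∈ q.comap (algebraMap A (R ⧸ Q))
      rw [e, hπ.maximalIdeal_eq]; exact Ideal.mem_span_singleton_self π)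
    refine hmax (q.comap (Ideal.Quotient.mk Q)) ⟨Ideal.IsPrime.comap _, hcomap ▸ Ideal.comap_mono hqP,
      by rw [Ideal.comap_comap]; exact hq1⟩ ?_
    refine lt_of_le_of_ne (fun r hr => ?_) fun e => hq0 ?_
    · show Ideal.Quotient.mk Q r ∈ q
      rw [Ideal.Quotient.eq_zero_iff_mem.2 hr]; exact q.zero_mem
    · rw [← Ideal.map_comap_of_surjective _ Ideal.Quotient.mk_surjective q, ← e, Ideal.map_quotient_self]
  haveI : IsNoetherianRing (R ⧸ Q) := inferInstance
  haveI : Algebra.QuasiFiniteAt A P' := quasiFiniteAt_of_minimal (maximalIdeal A) P' fun q hq hle' hqP =>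
    eq_of_forall_prime_le_mem hπ0 P' hsmall q hq
      (hle' (Ideal.mem_map_of_mem _ (by rw [hπ.maximalIdeal_eq]; exact Ideal.mem_span_singleton_self π))) hqP
  haveI : HenselianLocalRing A := Hensel.henselianLocalRing_of_henselianRing A
  let D := Localization.AtPrime P'
  haveI : Module.Finite A D := Hensel.exists_finite_localization_of_quasiFiniteAt A P'
  have hPc : P'.primeCompl ≤ nonZeroDivisors (R ⧸ Q) := Ideal.primeCompl_le_nonZeroDivisors P'
  haveI : IsDomain D := IsLocalization.isDomain_localization hPc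
  haveI : FaithfulSMul A D := (faithfulSMul_iff_algebraMap_injective A D).2 (by
    rw [IsScalarTower.algebraMap_eq A (R ⧸ Q) D]
    exact (IsLocalization.injective D hPc).comp hinj)
  obtain ⟨B, _, _, _, _, hloc, hBfin, i, hiloc⟩ := exists_dvr_over (A := A) D
  let χ : R →+* B := i.toRingHom.comp ((algebraMap (R ⧸ Q) D).comp (Ideal.Quotient.mk Q))
  have hχA : ∀ a, χ (algebraMap A R a) = algebraMap A B a := fun a => by
    show i (algebraMap (R ⧸ Q) D (algebraMap A (R ⧸ Q) a)) = _
    rw [← IsScalarTower.algebraMap_apply, i.commutes]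
  refine ⟨CommRingCat.of B, inferInstance, inferInstance, algebraMap A B, hloc, χ,
    RingHom.finite_algebraMap.2 inferInstance, RingHom.ext hχA, fun r => ?_⟩
  obtain ⟨a, ha⟩ := residue_surjective (ψ r)
  have hr : r - algebraMap A R a ∈ RingHom.ker ψ := by
    rw [RingHom.mem_ker, map_sub, ψ.commutes, IsLocalRing.ResidueField.algebraMap_eq, ha, sub_self]
  have hm : χ (r - algebraMap A R a) ∈ maximalIdeal B := by
    have h1 : algebraMap (R ⧸ Q) D (Ideal.Quotient.mk Q (r - algebraMap A R a)) ∈ maximalIdeal D := by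
      rw [IsLocalization.AtPrime.to_map_mem_maximal_iff D P']
      exact Ideal.mem_map_of_mem _ hr
    exact map_nonunit i.toRingHom _ h1
  rw [map_sub, hχA, ← residue_eq_zero_iff, map_sub, sub_eq_zero] at hm
  rw [← ha]
  exact hm.trans (ResidueField.map_residue _ _).symm

open TensorProduct in
/-- A flat local algebra over a discrete valuation ring with a field as closed fibre is a discrete
valuation ring. -/
theorem dvr_of_flat_field {A A' k' : Type u} [CommRing A] [IsDomain A] [IsDiscreteValuationRing A]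
    [CommRing A'] [IsLocalRing A'] [IsNoetherianRing A'] [Algebra A A'] [IsLocalHom (algebraMap A A')]
    [Module.Flat A A'] [Field k'] [Algebra (ResidueField A) k']
    (e : ResidueField A ⊗[A] A' ≃ₐ[ResidueField A] k') :
    ∃ (_ : IsDomain A') (_ : IsDiscreteValuationRing A') (ε : ResidueField A' ≃+* k'),
      ∀ a : A, ε (residue A' (algebraMap A A' a)) = algebraMap (ResidueField A) k' (residue A a) := by
  obtain ⟨π, hπ⟩ := IsDiscreteValuationRing.exists_irreducible A
  let p : A' := algebraMap A A' π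
  let ι : A' →+* k' := e.toAlgHom.toRingHom.comp Algebra.TensorProduct.includeRight.toRingHom
  have hι : ∀ a : A, ι (algebraMap A A' a) = algebraMap (ResidueField A) k' (residue A a) := fun a => by
    show e (1 ⊗ₜ[A] algebraMap A A' a) = _
    rw [← IsLocalRing.ResidueField.algebraMap_eq, ← e.commutes]
    congr 1
    rw [Algebra.TensorProduct.algebraMap_apply, Algebra.algebraMap_self, RingHom.id_apply,
      Algebra.algebraMap_eq_smul_one, Algebra.algebraMap_eq_smul_one, TensorProduct.tmul_smul,
      TensorProduct.smul_tmul']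
  have hιs : Function.Surjective ι := by
    intro c
    obtain ⟨z, rfl⟩ := e.surjective c
    obtain ⟨b, rfl⟩ := Algebra.TensorProduct.includeRight_surjective (S := ResidueField A) A' (residue_surjective (R := A)) z
    exact ⟨b, rfl⟩
  have hker : RingHom.ker ι = maximalIdeal A' :=
    eq_maximalIdeal (RingHom.ker_isMaximal_of_surjective ι hιs)
  have hmax : maximalIdeal A' = Ideal.span {p} := by
    refine le_antisymm (fun b hb => ?_) ?_
    · rw [← hker, RingHom.mem_ker] at hb
      have h1 : (1 : ResidueField A) ⊗ₜ[A] b = 0 := e.injective (hb.trans (map_zero e).symm)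
      have h2 := congrArg (Algebra.TensorProduct.comm A (ResidueField A) A') h1
      rw [Algebra.TensorProduct.comm_tmul, map_zero] at h2
      have h4 : Ideal.Quotient.mk ((maximalIdeal A).map (algebraMap A A')) b = 0 :=
        (Algebra.TensorProduct.quotIdealMapEquivTensorQuot A' (maximalIdeal A)).injective
          (h2.trans (map_zero _).symm)
      rw [Ideal.Quotient.eq_zero_iff_mem, hπ.maximalIdeal_eq, Ideal.map_span, Set.image_singleton] at h4
      exact h4
    · rw [Ideal.span_le, Set.singleton_subset_iff]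
      exact map_nonunit _ _ (by rw [hπ.maximalIdeal_eq]; exact Ideal.mem_span_singleton_self π)
  have hreg : IsSMulRegular A' p := by
    intro b c hbc
    refine Module.Flat.isSMulRegular_of_isRegular (M := A') (isRegular_of_ne_zero hπ.ne_zero) ?_
    simpa [p, Algebra.smul_def] using hbc
  have hdec : ∀ b : A', b ≠ 0 → ∃ (n : ℕ) (v : A'), IsUnit v ∧ p ^ n * v = b := by
    intro b hb
    by_contra hcon
    refine hb ?_
    have hall : ∀ n, ∃ v, p ^ n * v = b := by
      intro n
      induction n with
      | zero => exact ⟨b, by simp⟩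
      | succ n ih =>
        obtain ⟨v, hv⟩ := ih
        have hvm : v ∈ maximalIdeal A' := fun hu => hcon ⟨n, v, hu, hv⟩
        rw [hmax, Ideal.mem_span_singleton'] at hvm
        obtain ⟨w, rfl⟩ := hvm
        exact ⟨w, by rw [← hv]; ring⟩
    have h1 : b ∈ ⨅ n : ℕ, maximalIdeal A' ^ n := by
      refine Submodule.mem_iInf _ |>.2 fun n => ?_
      obtain ⟨v, rfl⟩ := hall n
      exact Ideal.mul_mem_right _ _ (Ideal.pow_mem_pow (hmax ▸ Ideal.mem_span_singleton_self p) n)
    rwa [Ideal.iInf_pow_eq_bot_of_isLocalRing _ (maximalIdeal.isMaximal A').ne_top, Ideal.mem_bot] at h1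
  haveI : IsDomain A' := by
    haveI : NoZeroDivisors A' := ⟨fun {b c} hbc => by
      by_contra! hne
      obtain ⟨n, v, hv, rfl⟩ := hdec b hne.1
      obtain ⟨m, w, hw, rfl⟩ := hdec c hne.2
      have h1 : p ^ (n + m) * 1 = p ^ (n + m) * 0 := by
        rw [mul_zero, mul_one, ← (hv.mul hw).mul_left_eq_zero, ← hbc]
        ring
      exact one_ne_zero ((hreg.pow (n + m)) h1)⟩
    exact NoZeroDivisors.to_isDomain A'
  have hp0 : p ≠ 0 := fun e0 => one_ne_zero (hreg (show p • (1 : A') = p • 0 by simp [e0]))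
  have hnf : ¬ IsField A' := fun hf => hp0 (by
    have h1 : p ∈ maximalIdeal A' := hmax ▸ Ideal.mem_span_singleton_self p
    rwa [isField_iff_maximalIdeal_eq.1 hf] at h1)
  haveI : IsDiscreteValuationRing A' :=
    ((IsDiscreteValuationRing.TFAE A' hnf).out 0 4 rfl rfl).2 ⟨⟨p, hmax⟩⟩
  refine ⟨inferInstance, inferInstance,
    (Ideal.quotEquivOfEq hker.symm).trans (RingHom.quotientKerEquivOfSurjective hιs), fun a => ?_⟩
  exact hι a

/-- A finite local homomorphism from a discrete valuation ring to another one is injective. -/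
theorem injective_of_finite {A B : Type u} [CommRing A] [IsDomain A] [IsDiscreteValuationRing A] [CommRing B]
    [IsDomain B] [IsDiscreteValuationRing B] (φ : A →+* B) (hφ : φ.Finite) : Function.Injective φ := by
  rw [RingHom.injective_iff_ker_eq_bot]
  by_contra hne
  haveI := RingHom.ker_isPrime φ
  have hm : (RingHom.ker φ).IsMaximal := Ideal.IsPrime.isMaximal_of_ne_bot inferInstance hne
  letI : Field (A ⧸ RingHom.ker φ) := Ideal.Quotient.field _
  let φ' : A ⧸ RingHom.ker φ →+* B := RingHom.kerLift φ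
  have h1 : φ'.IsIntegral := RingHom.IsIntegral.tower_top (Ideal.Quotient.mk (RingHom.ker φ)) φ' hφ.to_isIntegral
  letI := φ'.toAlgebra
  haveI : Algebra.IsIntegral (A ⧸ RingHom.ker φ) B := ⟨h1⟩
  exact IsDiscreteValuationRing.not_isField B (isField_of_isIntegral_of_isField' (R := A ⧸ RingHom.ker φ)
    (Field.toIsField _))

end Groth.Agent.UnivOpenDvr5
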